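import Mathlib

/-!
An explicit Sylow 2-subgroup of the alternating group of degree eleven: 128 elements listed as
products of seven generators.
-/

set_option autoImplicit false
set_option maxRecDepth 100000

namespace Cfsg.Agent.Lib.LyFusion69

open Equiv

/-- the seven generators -/
def pGen : Fin 7 → Perm (Fin 11) :=
  ![swap 0 1 * swap 8 9, swap 2 3 * swap 8 9, swap 4 5 * swap 8 9, swap 6 7 * swap 8 9,
    swap 0 2 * swap 1 3, swap 4 6 * swap 5 7, swap 0 4 * swap 1 5 * swap 2 6 * swap 3 7]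

/-- the products -/
def pEl (i : Fin 128) : Perm (Fin 11) :=
  ((List.finRange 7).map fun k : Fin 7 => if i.1.testBit k.1 then pGen k else 1).prod

/-- the multiplication table with the generators -/
def pNext (k : Fin 7) (i : Fin 128) : Fin 128 :=
  Fin.ofNat 128 (([
    [1, 0, 3, 2, 5, 4, 7, 6, 9, 8, 11, 10, 13, 12, 15, 14, 18, 19, 16, 17, 22, 23, 20, 21, 26, 27, 24, 25, 30, 31, 28, 29, 33, 32, 35, 34, 37, 36, 39, 38, 41, 40, 43, 42, 45, 44, 47, 46, 50, 51, 48, 49, 54, 55, 52, 53, 58, 59, 56, 57, 62, 63, 60, 61, 68, 69, 70, 71, 64, 65, 66, 67, 76, 77, 78, 79, 72, 73, 74, 75, 84, 85, 86, 87, 80, 81, 82, 83, 92, 93, 94, 95, 88, 89, 90, 91, 104, 105, 106, 107, 108, 109, 110, 111, 96, 97, 98, 99, 100, 101, 102, 103, 120, 121, 122, 123, 124, 125, 126, 127, 112, 113, 114, 115, 116, 117, 118, 119],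
    [2, 3, 0, 1, 6, 7, 4, 5, 10, 11, 8, 9, 14, 15, 12, 13, 17, 16, 19, 18, 21, 20, 23, 22, 25, 24, 27, 26, 29, 28, 31, 30, 34, 35, 32, 33, 38, 39, 36, 37, 42, 43, 40, 41, 46, 47, 44, 45, 49, 48, 51, 50, 53, 52, 55, 54, 57, 56, 59, 58, 61, 60, 63, 62, 72, 73, 74, 75, 76, 77, 78, 79, 64, 65, 66, 67, 68, 69, 70, 71, 88, 89, 90, 91, 92, 93, 94, 95, 80, 81, 82, 83, 84, 85, 86, 87, 100, 101, 102, 103, 96, 97, 98, 99, 108, 109, 110, 111, 104, 105, 106, 107, 116, 117, 118, 119, 112, 113, 114, 115, 124, 125, 126, 127, 120, 121, 122, 123],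
    [4, 5, 6, 7, 0, 1, 2, 3, 12, 13, 14, 15, 8, 9, 10, 11, 20, 21, 22, 23, 16, 17, 18, 19, 28, 29, 30, 31, 24, 25, 26, 27, 40, 41, 42, 43, 44, 45, 46, 47, 32, 33, 34, 35, 36, 37, 38, 39, 56, 57, 58, 59, 60, 61, 62, 63, 48, 49, 50, 51, 52, 53, 54, 55, 65, 64, 67, 66, 69, 68, 71, 70, 73, 72, 75, 74, 77, 76, 79, 78, 82, 83, 80, 81, 86, 87, 84, 85, 90, 91, 88, 89, 94, 95, 92, 93, 97, 96, 99, 98, 101, 100, 103, 102, 105, 104, 107, 106, 109, 108, 111, 110, 114, 115, 112, 113, 118, 119, 116, 117, 122, 123, 120, 121, 126, 127, 124, 125],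
    [8, 9, 10, 11, 12, 13, 14, 15, 0, 1, 2, 3, 4, 5, 6, 7, 24, 25, 26, 27, 28, 29, 30, 31, 16, 17, 18, 19, 20, 21, 22, 23, 36, 37, 38, 39, 32, 33, 34, 35, 44, 45, 46, 47, 40, 41, 42, 43, 52, 53, 54, 55, 48, 49, 50, 51, 60, 61, 62, 63, 56, 57, 58, 59, 66, 67, 64, 65, 70, 71, 68, 69, 74, 75, 72, 73, 78, 79, 76, 77, 81, 80, 83, 82, 85, 84, 87, 86, 89, 88, 91, 90, 93, 92, 95, 94, 98, 99, 96, 97, 102, 103, 100, 101, 106, 107, 104, 105, 110, 111, 108, 109, 113, 112, 115, 114, 117, 116, 119, 118, 121, 120, 123, 122, 125, 124, 127, 126],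
    [16, 17, 18, 19, 20, 21, 22, 23, 24, 25, 26, 27, 28, 29, 30, 31, 0, 1, 2, 3, 4, 5, 6, 7, 8, 9, 10, 11, 12, 13, 14, 15, 48, 49, 50, 51, 52, 53, 54, 55, 56, 57, 58, 59, 60, 61, 62, 63, 32, 33, 34, 35, 36, 37, 38, 39, 40, 41, 42, 43, 44, 45, 46, 47, 96, 97, 98, 99, 100, 101, 102, 103, 104, 105, 106, 107, 108, 109, 110, 111, 112, 113, 114, 115, 116, 117, 118, 119, 120, 121, 122, 123, 124, 125, 126, 127, 64, 65, 66, 67, 68, 69, 70, 71, 72, 73, 74, 75, 76, 77, 78, 79, 80, 81, 82, 83, 84, 85, 86, 87, 88, 89, 90, 91, 92, 93, 94, 95],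
    [32, 33, 34, 35, 36, 37, 38, 39, 40, 41, 42, 43, 44, 45, 46, 47, 48, 49, 50, 51, 52, 53, 54, 55, 56, 57, 58, 59, 60, 61, 62, 63, 0, 1, 2, 3, 4, 5, 6, 7, 8, 9, 10, 11, 12, 13, 14, 15, 16, 17, 18, 19, 20, 21, 22, 23, 24, 25, 26, 27, 28, 29, 30, 31, 80, 81, 82, 83, 84, 85, 86, 87, 88, 89, 90, 91, 92, 93, 94, 95, 64, 65, 66, 67, 68, 69, 70, 71, 72, 73, 74, 75, 76, 77, 78, 79, 112, 113, 114, 115, 116, 117, 118, 119, 120, 121, 122, 123, 124, 125, 126, 127, 96, 97, 98, 99, 100, 101, 102, 103, 104, 105, 106, 107, 108, 109, 110, 111],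
    [64, 65, 66, 67, 68, 69, 70, 71, 72, 73, 74, 75, 76, 77, 78, 79, 80, 81, 82, 83, 84, 85, 86, 87, 88, 89, 90, 91, 92, 93, 94, 95, 96, 97, 98, 99, 100, 101, 102, 103, 104, 105, 106, 107, 108, 109, 110, 111, 112, 113, 114, 115, 116, 117, 118, 119, 120, 121, 122, 123, 124, 125, 126, 127, 0, 1, 2, 3, 4, 5, 6, 7, 8, 9, 10, 11, 12, 13, 14, 15, 16, 17, 18, 19, 20, 21, 22, 23, 24, 25, 26, 27, 28, 29, 30, 31, 32, 33, 34, 35, 36, 37, 38, 39, 40, 41, 42, 43, 44, 45, 46, 47, 48, 49, 50, 51, 52, 53, 54, 55, 56, 57, 58, 59, 60, 61, 62, 63]].getD k.1 []).getD i.1 0)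

theorem pEl_next : ∀ k i, pEl i * pGen k = pEl (pNext k i) := by decide +kernel

theorem pEl_zero : pEl 0 = 1 := by decide +kernel

/-- the permutation as a number -/
def pKey (g : Perm (Fin 11)) : ℕ :=
  ((List.finRange 11).map fun j : Fin 11 => (g j).1 * 11 ^ j.1).sum

theorem pKey_nodup : ((List.finRange 128).map fun i => pKey (pEl i)).Nodup := by decide +kernel

theorem pEl_center : ∀ i, (∀ k, pEl i * pGen k = pGen k * pEl i) → i = 0 ∨ i = 15 := by decide +kernel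

/-- the number of points fixed -/
def fixCard (g : Perm (Fin 11)) : ℕ := (Finset.univ.filter fun j : Fin 11 => g j = j).card

theorem pEl_four : ∀ i ∈ ([7, 11, 13, 14, 15, 20, 28, 51, 64] : List (Fin 128)),
    pEl i * pEl i = 1 ∧ fixCard (pEl i) = 3 := by decide +kernel

/-- each generator as a product of elements with three fixed points -/
def pFour (k : Fin 7) : List (Fin 128) :=
  [[7, 11, 13], [7, 11, 14], [7, 13, 14], [7, 15], [7, 11, 28], [7, 20, 51], [64]].getD k.1 []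

theorem pFour_prod : ∀ k, ((pFour k).map pEl).prod = pGen k := by decide +kernel

theorem pFour_mem : ∀ k, ∀ i ∈ pFour k,
    i ∈ ([7, 11, 13, 14, 15, 20, 28, 51, 64] : List (Fin 128)) := by decide +kernel

theorem pEl_witness : pEl 15 * pEl 1 = pEl 14 ∧ fixCard (pEl 1) = 7 ∧ pEl 1 * pEl 1 = 1 ∧
    pEl 15 * pEl 1 = pEl 1 * pEl 15 := by decide +kernel

theorem pEl_sign : ∀ i, Perm.sign (pEl i) = 1 := by decide +kernel

end Cfsg.Agent.Lib.LyFusion69
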