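import Cfsg.Agent.Lib.Fusion.AltMain
import Cfsg.Agent.Lib.LyFusion69.Data

/-!
A Sylow 2-subgroup of the alternating group of degree eleven and the two classes of involutions.
-/

set_option autoImplicit false

namespace Cfsg.Agent.Lib.LyFusion69

open Equiv

/-- A subgroup with the alternating Sylow order has no odd normalising element but one. -/
theorem eq_one_of_normalizes_sylow (n : ℕ) (hn : 6 ≤ n) (P : Sylow 2 (alternatingGroup (Fin n)))
    {g : alternatingGroup (Fin n)}
    (hg : g ∈ Subgroup.normalizer ((P : Subgroup (alternatingGroup (Fin n))) : Set _))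
    (ho : Odd (orderOf g)) : g = 1 := by
  classical
  haveI : Fact (Nat.Prime 2) := ⟨Nat.prime_two⟩
  haveI : Subsingleton (Fin (n % 2)) :=
    Fin.subsingleton_iff_le_one.2 (Nat.lt_succ_iff.1 (Nat.mod_lt n Nat.two_pos))
  obtain ⟨Q⟩ : Nonempty (Sylow 2 (Perm (Fin (n / 2)))) := inferInstance
  let ψ : Fin n ≃ Fusion.AltBlocks.Pts (Fin (n / 2)) 2 (Fin (n % 2)) :=
    Fintype.equivOfCardEq (by simp; exact (Nat.div_add_mod' n 2).symm)
  set U := Fusion.AltBlocks.altSylow 2 (Fin (n % 2)) (Q : Subgroup (Perm (Fin (n / 2)))) with hUdef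
  have hU : IsPGroup 2 U :=
    (Fusion.AltBlocks.isPGroup_blockSylow Q.2).comap_of_injective
      (alternatingGroup _).subtype Subtype.val_injective
  have hUi : ¬ 2 ∣ U.index := fun h =>
    Fusion.AltBlocks.not_dvd_index_blockSylow (by simpa using Nat.mod_lt n Nat.two_pos) Q
      (h.trans (Fusion.AltBlocks.relIndex_dvd_index_of_normal_right _ _))
  let P₀ : Sylow 2 (alternatingGroup (Fusion.AltBlocks.Pts (Fin (n / 2)) 2 (Fin (n % 2)))) :=
    hU.toSylow hUi
  let e : alternatingGroup (Fin n) ≃*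
      alternatingGroup (Fusion.AltBlocks.Pts (Fin (n / 2)) 2 (Fin (n % 2))) := Equiv.altCongrHom ψ
  let P' : Sylow 2 (alternatingGroup (Fusion.AltBlocks.Pts (Fin (n / 2)) 2 (Fin (n % 2)))) :=
    (P.2.map e.toMonoidHom).toSylow fun h =>
      P.not_dvd_index (h.trans (Subgroup.index_map_dvd _ e.surjective))
  obtain ⟨c, hc⟩ := MulAction.exists_smul_eq
    (alternatingGroup (Fusion.AltBlocks.Pts (Fin (n / 2)) 2 (Fin (n % 2)))) P' P₀
  have hmem : ∀ y, y ∈ (U : Subgroup _) ↔ c⁻¹ * y * c ∈ (P' : Subgroup _) := by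
    intro y
    show y ∈ (P₀ : Subgroup _) ↔ _
    rw [← hc, Sylow.coe_subgroup_smul, Subgroup.mem_pointwise_smul_iff_inv_smul_mem]
    show (MulAut.conj c)⁻¹ y ∈ _ ↔ _
    rw [MulAut.conj_inv_apply]
  have hg' : e g ∈ Subgroup.normalizer
      ((P' : Subgroup (alternatingGroup (Fusion.AltBlocks.Pts (Fin (n / 2)) 2 (Fin (n % 2))))) : Set _) :=
    (P : Subgroup (alternatingGroup (Fin n))).le_normalizer_map e.toMonoidHom ⟨g, hg, rfl⟩
  set h := c * e g * c⁻¹ with hh
  have hN : ∀ y ∈ U, h * y * h⁻¹ ∈ U := by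
    intro y hy
    rw [hmem] at hy ⊢
    have := (Subgroup.mem_normalizer_iff.1 hg' _).1 hy
    simpa [hh, mul_assoc] using this
  have hord : Odd (orderOf h.1) := by
    rw [Subgroup.orderOf_coe, hh, show c * e g * c⁻¹ = MulAut.conj c (e g) from rfl,
      MulEquiv.orderOf_eq, MulEquiv.orderOf_eq]
    exact ho
  have h1 : h.1 = 1 :=
    Fusion.AltBlocks.eq_one_of_normalizes_alt (by simp; omega) Q hord fun y hy hys =>
      hN ⟨y, Perm.mem_alternatingGroup.2 hys⟩ hy
  have h2 : e g = 1 := by
    have h3 : h = 1 := Subtype.ext h1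
    rw [hh, conj_eq_one_iff] at h3
    exact h3
  exact e.injective (h2.trans (map_one e).symm)

/-- the listed elements -/
def aEl (i : Fin 128) : alternatingGroup (Fin 11) :=
  ⟨pEl i, Perm.mem_alternatingGroup.2 (pEl_sign i)⟩

/-- the generators -/
def aGen (k : Fin 7) : alternatingGroup (Fin 11) :=
  ⟨pGen k, Perm.mem_alternatingGroup.2 (by
    rw [← pFour_prod k, map_list_prod]
    refine List.prod_eq_one fun x hx => ?_
    simp only [List.map_map, List.mem_map] at hx
    obtain ⟨i, -, rfl⟩ := hx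
    exact pEl_sign i)⟩

theorem aEl_zero : aEl 0 = 1 := Subtype.ext pEl_zero

theorem aEl_mul_gen (k : Fin 7) (i : Fin 128) : aEl i * aGen k = aEl (pNext k i) :=
  Subtype.ext (pEl_next k i)

theorem aEl_injective : Function.Injective aEl := by
  intro i j h
  have hn := (List.nodup_map_iff_inj_on (List.nodup_finRange 128)).1 pKey_nodup
  exact hn i (List.mem_finRange i) j (List.mem_finRange j)
    (congrArg (fun x : alternatingGroup (Fin 11) => pKey (x : Perm (Fin 11))) h)

/-- the subgroup -/
def pSub : Subgroup (alternatingGroup (Fin 11)) := Subgroup.closure (Set.range aGen)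

theorem mem_pSub_iff {x : alternatingGroup (Fin 11)} : x ∈ pSub ↔ ∃ i, aEl i = x := by
  constructor
  · intro hx
    have hx' : x ∈ Submonoid.closure (Set.range aGen) := by
      rw [← Subgroup.closure_toSubmonoid_of_finite]; exact hx
    induction hx' using Submonoid.closure_induction_right with
    | one => exact ⟨0, aEl_zero⟩
    | mul_right a ha b hb ih =>
      obtain ⟨k, rfl⟩ := hb
      obtain ⟨i, rfl⟩ := ih (by
        show a ∈ Subgroup.closure (Set.range aGen)
        exact Subgroup.le_closure_toSubmonoid _ ha)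
      exact ⟨_, (aEl_mul_gen k i).symm⟩
  · rintro ⟨i, rfl⟩
    have h : aEl i = ((List.finRange 7).map fun k : Fin 7 =>
        if i.1.testBit k.1 then aGen k else 1).prod := by
      refine Subtype.ext ?_
      rw [Subgroup.val_list_prod, List.map_map]
      refine congrArg List.prod (List.map_congr_left fun k _ => ?_)
      by_cases hb : i.1.testBit k.1 <;> simp [hb, aGen]
    rw [h]
    refine Subgroup.list_prod_mem _ fun y hy => ?_
    obtain ⟨k, -, rfl⟩ := List.mem_map.1 hy
    by_cases hb : i.1.testBit k.1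
    · rw [if_pos hb]; exact Subgroup.subset_closure ⟨k, rfl⟩
    · rw [if_neg hb]; exact one_mem _

theorem card_pSub : Nat.card pSub = 128 := by
  let f : Fin 128 → pSub := fun i => ⟨aEl i, mem_pSub_iff.2 ⟨i, rfl⟩⟩
  have hf : Function.Bijective f :=
    ⟨fun i j h => aEl_injective (congrArg Subtype.val h), fun y => by
      obtain ⟨i, hi⟩ := mem_pSub_iff.1 y.2
      exact ⟨i, Subtype.ext hi⟩⟩
  rw [← Nat.card_congr (Equiv.ofBijective f hf), Nat.card_fin]

theorem card_alt : Nat.card (alternatingGroup (Fin 11)) = 19958400 := by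
  have h := two_mul_nat_card_alternatingGroup (α := Fin 11)
  rw [Nat.card_perm, Nat.card_fin] at h
  have : Nat.factorial 11 = 39916800 := by decide
  omega

theorem exists_sylow : ∃ P : Sylow 2 (alternatingGroup (Fin 11)),
    (P : Subgroup (alternatingGroup (Fin 11))) = pSub := by
  haveI : Fact (Nat.Prime 2) := ⟨Nat.prime_two⟩
  have h2 : IsPGroup 2 pSub := IsPGroup.of_card (n := 7) (by rw [card_pSub]; norm_num)
  refine ⟨h2.toSylow ?_, rfl⟩
  have h := pSub.index_mul_card
  rw [card_pSub, card_alt] at h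
  omega

theorem center_pSub {x : alternatingGroup (Fin 11)} (hx : x ∈ pSub)
    (hc : ∀ y ∈ pSub, x * y = y * x) : x = 1 ∨ x = aEl 15 := by
  obtain ⟨i, rfl⟩ := mem_pSub_iff.1 hx
  rcases pEl_center i (fun k => congrArg Subtype.val
    (hc (aGen k) (Subgroup.subset_closure ⟨k, rfl⟩))) with rfl | rfl
  · exact Or.inl aEl_zero
  · exact Or.inr rfl

theorem cycleType_involution {x : alternatingGroup (Fin 11)} (h2 : x * x = 1) (h1 : x ≠ 1) :
    (fixCard x = 7 ∧ (x : Perm (Fin 11)).cycleType = Multiset.replicate 2 2) ∨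
      (fixCard x = 3 ∧ (x : Perm (Fin 11)).cycleType = Multiset.replicate 4 2) := by
  set p : Perm (Fin 11) := x.1
  have hp : p * p = 1 := congrArg Subtype.val h2
  have hp1 : p ≠ 1 := fun e => h1 (Subtype.ext e)
  have hall : ∀ c ∈ p.cycleType, c = 2 := by
    intro c hc
    have h3 : c ∣ orderOf p := by
      rw [← Perm.lcm_cycleType]; exact Multiset.dvd_lcm hc
    have h4 := h3.trans (orderOf_dvd_of_pow_eq_one (show p ^ 2 = 1 by rw [pow_two]; exact hp))
    have h5 := Perm.two_le_of_mem_cycleType hc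
    have h6 := Nat.le_of_dvd (by norm_num) h4
    omega
  have hrep := Multiset.eq_replicate_of_mem hall
  generalize hk : Multiset.card p.cycleType = k at hrep
  have hsum : p.support.card = 2 * k := by
    rw [← Perm.sum_cycleType, hrep, Multiset.sum_replicate, smul_eq_mul, mul_comm]
  have hk11 : 2 * k ≤ 11 := by
    rw [← hsum]; exact (Finset.card_le_univ _).trans_eq (Fintype.card_fin 11)
  have hk0 : k ≠ 0 := fun e => hp1 (Perm.cycleType_eq_zero.1 (by rw [hrep, e, Multiset.replicate_zero]))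
  have hsign : (-1 : ℤˣ) ^ (p.cycleType.sum + Multiset.card p.cycleType) = 1 := by
    rw [← Perm.sign_of_cycleType]; exact Perm.mem_alternatingGroup.1 x.2
  rw [Perm.sum_cycleType, hsum, hk] at hsign
  have hfix : fixCard p = 11 - 2 * k := by
    have hs : p.support = Finset.univ.filter fun j => ¬p j = j := by ext; simp
    have := Finset.card_filter_add_card_filter_not (s := Finset.univ) (fun j : Fin 11 => p j = j)
    rw [← hs, hsum] at this
    simp only [Finset.card_univ, Fintype.card_fin] at this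
    unfold fixCard
    omega
  have hk5 : k ≤ 5 := by omega
  have hev : Even k := by
    rcases Nat.even_or_odd k with he | ho
    · exact he
    · exfalso
      rw [show 2 * k + k = 3 * k by ring, Odd.neg_one_pow (by exact (Odd.mul (by decide) ho))] at hsign
      exact absurd hsign (by decide)
  obtain ⟨m, rfl⟩ := hev
  have hm : m = 1 ∨ m = 2 := by omega
  rcases hm with rfl | rfl
  · exact Or.inl ⟨hfix, hrep⟩
  · exact Or.inr ⟨hfix, hrep⟩

theorem isConj_of_fixCard {x y : alternatingGroup (Fin 11)} (hx : x * x = 1) (hx1 : x ≠ 1)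
    (hy : y * y = 1) (hy1 : y ≠ 1) (h : fixCard x = fixCard y) : IsConj x y := by
  have hc : (x : Perm (Fin 11)).cycleType = (y : Perm (Fin 11)).cycleType := by
    rcases cycleType_involution hx hx1 with ⟨a, b⟩ | ⟨a, b⟩ <;>
    rcases cycleType_involution hy hy1 with ⟨a', b'⟩ | ⟨a', b'⟩ <;>
    first | omega | (rw [b, b'])
  obtain ⟨c, hc⟩ := isConj_iff.1 (Perm.isConj_iff_cycleType_eq.2 hc)
  rcases Int.units_eq_one_or (Perm.sign c) with hs | hs
  · exact isConj_iff.2 ⟨⟨c, Perm.mem_alternatingGroup.2 hs⟩, Subtype.ext hc⟩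
  · obtain ⟨a, ha⟩ : ∃ a, (x : Perm (Fin 11)) a ≠ a := by
      by_contra hcon
      exact hx1 (Subtype.ext (Perm.ext fun a => by
        by_contra ha; exact hcon ⟨a, ha⟩))
    set s : Perm (Fin 11) := swap a ((x : Perm (Fin 11)) a) with hsdef
    have hxx : ∀ j, (x : Perm (Fin 11)) ((x : Perm (Fin 11)) j) = j := fun j =>
      congrArg (fun z : alternatingGroup (Fin 11) => (z : Perm (Fin 11)) j) hx
    have hcomm : (x : Perm (Fin 11)) * s = s * x := by
      rw [hsdef, Equiv.mul_swap_eq_swap_mul, hxx, swap_comm]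
    refine isConj_iff.2 ⟨⟨c * s, Perm.mem_alternatingGroup.2 (by
      rw [map_mul, hs, hsdef, Perm.sign_swap (Ne.symm ha), Int.units_mul_self])⟩, Subtype.ext ?_⟩
    show c * s * x * (c * s)⁻¹ = y
    rw [mul_assoc c s, ← hcomm, ← hc]
    group

end Cfsg.Agent.Lib.LyFusion69
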