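import Cfsg.Prelude.Def_SporadicB
import Cfsg.Prelude.Def_FusionComponents
import Cfsg.Agent.Lib.Fusion.SimpleSylow
import Cfsg.Agent.Lib.LyFusion69.Alt

/-!
Simplicity of the 2-fusion system from an involution whose centraliser is a double cover of the
alternating group of degree eleven and contains a Sylow 2-subgroup.
-/

set_option autoImplicit false

namespace Cfsg.Agent.Lib.LyFusion69

open Equiv

theorem test_perms :
    fixCard (swap 0 1 * swap 2 3) = 7 ∧ fixCard (swap 2 3 * swap 4 5) = 7 ∧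
    fixCard (swap 4 5 * swap 6 7) = 7 ∧ fixCard (swap 0 1 * swap 2 3 * (swap 2 3 * swap 4 5)) = 7 ∧
    fixCard (swap 2 3 * swap 4 5 * (swap 4 5 * swap 6 7)) = 7 ∧
    fixCard (swap 0 1 * swap 2 3 * (swap 2 3 * swap 4 5) * (swap 4 5 * swap 6 7)) = 7 ∧
    fixCard (swap 0 1 * swap 2 3 * (swap 4 5 * swap 6 7)) = 3 := by
  decide +kernel

theorem test_sq :
    (swap 0 1 * swap 2 3 : Perm (Fin 11)) * (swap 0 1 * swap 2 3) = 1 ∧
    (swap 2 3 * swap 4 5 : Perm (Fin 11)) * (swap 2 3 * swap 4 5) = 1 ∧
    (swap 4 5 * swap 6 7 : Perm (Fin 11)) * (swap 4 5 * swap 6 7) = 1 := by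
  decide +kernel

theorem commute_of_sq {M : Type*} [Group M] {a b : M} (ha : a * a = 1) (hb : b * b = 1)
    (hab : a * b * (a * b) = 1) : a * b = b * a := by
  have h : a * b = (a * b)⁻¹ := eq_inv_of_mul_eq_one_left hab
  rw [h, mul_inv_rev, ← eq_inv_of_mul_eq_one_left ha, ← eq_inv_of_mul_eq_one_left hb]

theorem ne_one_of_fixCard {x : alternatingGroup (Fin 11)} {n : ℕ} (h : fixCard x = n) (hn : n ≠ 11) :
    x ≠ 1 := by
  rintro rfl
  exact hn (h.symm.trans (by simp [fixCard]))

theorem isSimple_fusion {G : Type*} [Group G] [Finite G] (t : G) (ht : orderOf t = 2)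
    (hD : Cfsg.IsNonsplitDoubleCover (Subgroup.centralizer ({t} : Set G))
      (alternatingGroup (Fin 11)))
    {m : ℕ} (hcard : Nat.card G = 256 * m) (hm : Odd m)
    (w : G) (hwC : w * t = t * w) (hw : w * w = t)
    (v : G) (hvC : v * t = t * v) (hv : v * v = 1) (hv1 : v ≠ 1) (hvt : v ≠ t)
    (hc1 : IsConj t v) (hc2 : IsConj t (v * t)) (S : Sylow 2 G) :
    (Cfsg.groupFusionSystem (S : Subgroup G)).IsSimple 2 := by
  classical
  haveI : Fact (Nat.Prime 2) := ⟨Nat.prime_two⟩
  set C := Subgroup.centralizer ({t} : Set G) with hCdef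
  have hmemC : ∀ x : G, x ∈ C ↔ x * t = t * x := fun x => Subgroup.mem_centralizer_singleton_iff
  letI : Fintype C := Fintype.ofFinite C
  set τ : C := ⟨t, (hmemC t).2 rfl⟩ with hτdef
  obtain ⟨hc, ⟨φ⟩, -⟩ := hD
  have ht2 : t * t = 1 := by rw [← pow_two, ← ht, pow_orderOf_eq_one]
  have ht1 : t ≠ 1 := fun e => by rw [e, orderOf_one] at ht; omega
  have hτ2 : τ * τ = 1 := Subtype.ext ht2
  have hτ1 : τ ≠ 1 := fun e => ht1 (congrArg Subtype.val e)
  have hτc : ∀ x : C, x * τ = τ * x := fun x => Subtype.ext ((hmemC x).1 x.2)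
  have hτcen : τ ∈ Subgroup.center C := Subgroup.mem_center_iff.2 fun g => hτc g
  let f : C →* alternatingGroup (Fin 11) := φ.toMonoidHom.comp (QuotientGroup.mk' (Subgroup.center C))
  have hf : Function.Surjective f := φ.surjective.comp (QuotientGroup.mk'_surjective _)
  have hker : ∀ x : C, f x = 1 → x = 1 ∨ x = τ := by
    intro x hx
    have hxZ : x ∈ Subgroup.center C :=
      (QuotientGroup.eq_one_iff x).1 (φ.injective (hx.trans (map_one φ).symm))
    by_contra hcon
    simp only [not_or] at hcon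
    have h3 : ({1, τ, x} : Finset C).card = 3 := by
      rw [Finset.card_insert_of_notMem (by simp [hτ1.symm, Ne.symm hcon.1]),
        Finset.card_pair (Ne.symm hcon.2)]
    have := Finset.card_le_card (s := ({1, τ, x} : Finset C))
      (t := (Finset.univ : Finset C).filter fun y => y ∈ Subgroup.center C) (by
        intro y hy
        simp only [Finset.mem_insert, Finset.mem_singleton] at hy
        refine Finset.mem_filter.2 ⟨Finset.mem_univ _, ?_⟩
        rcases hy with rfl | rfl | rfl
        · exact one_mem _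
        · exact hτcen
        · exact hxZ)
    rw [h3, ← Fintype.card_subtype, ← Nat.card_eq_fintype_card] at this
    have hc' : Nat.card {y : C // y ∈ Subgroup.center C} = 2 := hc
    omega
  have hfτ : f τ = 1 := by
    show φ (QuotientGroup.mk' _ τ) = 1
    rw [show QuotientGroup.mk' (Subgroup.center C) τ = 1 from (QuotientGroup.eq_one_iff τ).2 hτcen,
      map_one]
  have hlift : ∀ x y : C, f x = f y → y = x ∨ y = x * τ := by
    intro x y h
    rcases hker (x⁻¹ * y) (by rw [map_mul, map_inv, h, inv_mul_cancel]) with e | e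
    · exact Or.inl (inv_mul_eq_one.1 e).symm
    · exact Or.inr (inv_mul_eq_iff_eq_mul.1 e)
  -- squares of lifts depend on the class only
  have hsame : ∀ x y : C, f x = f y → y * y = x * x := by
    intro x y h
    rcases hlift x y h with rfl | rfl
    · rfl
    · rw [show x * τ * (x * τ) = x * (τ * x) * τ by group, ← hτc, ← mul_assoc, mul_assoc (x * x),
        hτ2, mul_one]
  have hone : ∀ x : C, f x * f x = 1 → x * x = 1 ∨ x * x = τ := fun x hx =>
    hker _ (by rw [map_mul]; exact hx)
  have hclass : ∀ x y : C, f x * f x = 1 → f x ≠ 1 → f y * f y = 1 → f y ≠ 1 →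
      fixCard (f x : Perm (Fin 11)) = fixCard (f y : Perm (Fin 11)) → y * y = x * x := by
    intro x y a1 a2 b1 b2 h
    obtain ⟨c, hc⟩ := isConj_iff.1 (isConj_of_fixCard a1 a2 b1 b2 h)
    obtain ⟨c, rfl⟩ := hf c
    have e := hsame (c * x * c⁻¹) y (by rw [map_mul, map_mul, map_inv, hc])
    rw [e]
    rcases hone x a1 with h' | h' <;>
      rw [show c * x * c⁻¹ * (c * x * c⁻¹) = c * (x * x) * c⁻¹ by group, h']
    · group
    · rw [hτc, mul_inv_cancel_right]
  set W : C := ⟨w, (hmemC w).2 hwC⟩ with hWdef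
  set V : C := ⟨v, (hmemC v).2 hvC⟩ with hVdef
  have hWW : W * W = τ := Subtype.ext hw
  have hVV : V * V = 1 := Subtype.ext hv
  have hfW : f W * f W = 1 := by rw [← map_mul, hWW, hfτ]
  have hfW1 : f W ≠ 1 := fun e => by
    rcases hker W e with e' | e' <;> rw [e'] at hWW
    · exact hτ1 (by rw [← hWW, mul_one])
    · exact hτ1 (hWW.symm.trans hτ2)
  have hfV : f V * f V = 1 := by rw [← map_mul, hVV, map_one]
  have hfV1 : f V ≠ 1 := fun e => by
    rcases hker V e with e' | e'
    · exact hv1 (congrArg Subtype.val e')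
    · exact hvt (congrArg Subtype.val e')
  obtain ⟨p1, p2, p3, p12, p23, p123, p13⟩ := test_perms
  obtain ⟨q1, q2, q3⟩ := test_sq
  have htwo : ∀ x : C, f x * f x = 1 → fixCard (f x : Perm (Fin 11)) = 7 → x * x = τ := by
    intro x hx hx7
    rcases hone x hx with hx1 | hx1
    swap
    · exact hx1
    exfalso
    have hall : ∀ y : C, f y * f y = 1 → fixCard (f y : Perm (Fin 11)) = 7 → y * y = 1 :=
      fun y hy hy7 => (hclass x y hx (ne_one_of_fixCard hx7 (by norm_num)) hy
        (ne_one_of_fixCard hy7 (by norm_num)) (hx7.trans hy7.symm)).trans hx1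
    have mk : ∀ p : Perm (Fin 11), Perm.sign p = 1 → ∃ y : C, (f y : Perm (Fin 11)) = p := by
      intro p hp
      obtain ⟨y, hy⟩ := hf ⟨p, Perm.mem_alternatingGroup.2 hp⟩
      exact ⟨y, congrArg Subtype.val hy⟩
    obtain ⟨a, ha⟩ := mk (swap 0 1 * swap 2 3) (by decide +kernel)
    obtain ⟨b, hb⟩ := mk (swap 2 3 * swap 4 5) (by decide +kernel)
    obtain ⟨d, hd⟩ := mk (swap 4 5 * swap 6 7) (by decide +kernel)
    have sa : f a * f a = 1 := Subtype.ext (by rw [Subgroup.coe_mul, ha]; exact q1)
    have sb : f b * f b = 1 := Subtype.ext (by rw [Subgroup.coe_mul, hb]; exact q2)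
    have sd : f d * f d = 1 := Subtype.ext (by rw [Subgroup.coe_mul, hd]; exact q3)
    have a2 := hall a sa (by rw [ha]; exact p1)
    have b2 := hall b sb (by rw [hb]; exact p2)
    have d2 := hall d sd (by rw [hd]; exact p3)
    have sab : f (a * b) * f (a * b) = 1 := by
      rw [map_mul]; exact Subtype.ext (by simp only [Subgroup.coe_mul, ha, hb]; decide +kernel)
    have sbd : f (b * d) * f (b * d) = 1 := by
      rw [map_mul]; exact Subtype.ext (by simp only [Subgroup.coe_mul, hb, hd]; decide +kernel)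
    have sabd : f (a * b * d) * f (a * b * d) = 1 := by
      rw [map_mul, map_mul]
      exact Subtype.ext (by simp only [Subgroup.coe_mul, ha, hb, hd]; decide +kernel)
    have cab := commute_of_sq a2 b2 (hall _ sab (by rw [map_mul, Subgroup.coe_mul, ha, hb]; exact p12))
    have cbd := commute_of_sq b2 d2 (hall _ sbd (by rw [map_mul, Subgroup.coe_mul, hb, hd]; exact p23))
    have h3 := hall _ sabd (by simp only [map_mul, Subgroup.coe_mul, ha, hb, hd]; exact p123)
    have had : a * d * (a * d) = 1 := by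
      have : a * b * d * (a * b * d) = a * d * (a * d) := by
        rw [mul_assoc a b d, cbd, ← mul_assoc a d b,
          show a * d * b * (a * d * b) = a * d * (b * a) * d * b by group, ← cab,
          show a * d * (a * b) * d * b = a * d * a * (b * d) * b by group, cbd,
          show a * d * a * (d * b) * b = a * d * (a * d) * (b * b) by group, b2, mul_one]
      rw [← this]; exact h3
    have sadd : f (a * d) * f (a * d) = 1 := by rw [← map_mul, had, map_one]
    have had3 : fixCard (f (a * d) : Perm (Fin 11)) = 3 := by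
      rw [map_mul, Subgroup.coe_mul, ha, hd]; exact p13
    rcases cycleType_involution hfW hfW1 with ⟨h7, -⟩ | ⟨h3', -⟩
    · exact hτ1 (hWW ▸ hall W hfW h7)
    · have := hclass (a * d) W sadd (ne_one_of_fixCard had3 (by norm_num)) hfW hfW1 (had3.trans h3'.symm)
      rw [hWW, had] at this
      exact hτ1 this
  have hV3 : fixCard (f V : Perm (Fin 11)) = 3 := by
    rcases cycleType_involution hfV hfV1 with ⟨h7, -⟩ | ⟨h3, -⟩
    · exact absurd ((hVV ▸ htwo V hfV h7 : (1 : C) = τ)) (Ne.symm hτ1)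
    · exact h3
  have hfour : ∀ x : C, f x * f x = 1 → fixCard (f x : Perm (Fin 11)) = 3 →
      x * x = 1 ∧ IsConj t (x : G) := by
    intro x hx hx3
    refine ⟨(hclass V x hfV hfV1 hx (ne_one_of_fixCard hx3 (by norm_num))
      (hV3.trans hx3.symm)).trans hVV, ?_⟩
    obtain ⟨c, hc⟩ := isConj_iff.1
      (isConj_of_fixCard hfV hfV1 hx (ne_one_of_fixCard hx3 (by norm_num)) (hV3.trans hx3.symm))
    obtain ⟨c, rfl⟩ := hf c
    rcases hlift (c * V * c⁻¹) x (by rw [map_mul, map_mul, map_inv, hc]) with e | e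
    · exact hc1.trans (isConj_iff.2 ⟨c, (congrArg Subtype.val e).symm⟩)
    · refine hc2.trans (isConj_iff.2 ⟨c, ?_⟩)
      have e' : (x : G) = (c : G) * v * (c : G)⁻¹ * t := congrArg Subtype.val e
      rw [e', show (c : G) * (v * t) * (c : G)⁻¹ = (c : G) * v * (t * (c : G)⁻¹) by group,
        ← (hmemC _).1 (inv_mem c.2)]
      group
  -- the Sylow subgroup
  set R : Subgroup C := pSub.comap f with hR
  set R₀ : Subgroup G := R.map C.subtype with hR₀
  have hCcard : Nat.card C = 2 * 19958400 := by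
    rw [Subgroup.card_eq_card_quotient_mul_card_subgroup (Subgroup.center C), hc,
      Nat.card_congr φ.toEquiv, card_alt]
  have hRcard : Nat.card R₀ = 256 := by
    rw [hR₀, Subgroup.card_map_of_injective (Subgroup.subtype_injective C)]
    have h1 := R.index_mul_card
    rw [hR, Subgroup.index_comap_of_surjective _ hf, ← hR, hCcard] at h1
    have h2 := pSub.index_mul_card
    rw [card_pSub, card_alt] at h2
    have h3 : pSub.index = 155925 := by omega
    rw [h3] at h1
    omega
  have hR2 : IsPGroup 2 R₀ := IsPGroup.of_card (n := 8) (by rw [hRcard]; norm_num)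
  have hidx : ¬ 2 ∣ R₀.index := by
    have h1 := R₀.index_mul_card
    rw [hRcard, hcard] at h1
    have : R₀.index = m := by omega
    rw [this]
    exact fun h2 => (Nat.not_even_iff_odd.2 hm) (even_iff_two_dvd.2 h2)
  let S₀ : Sylow 2 G := hR2.toSylow hidx
  have hS₀ : ∀ x : G, x ∈ (S₀ : Subgroup G) ↔ ∃ y : C, f y ∈ pSub ∧ (y : G) = x := fun x =>
    Subgroup.mem_map
  have hτS : t ∈ (S₀ : Subgroup G) := (hS₀ t).2 ⟨τ, by rw [hfτ]; exact one_mem _, rfl⟩
  obtain ⟨e15, e1, e1sq, e15comm⟩ := pEl_witness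
  have hcen : ∀ z : G, z ∈ (S₀ : Subgroup G) → z * z = 1 → z ≠ 1 →
      (∀ s ∈ (S₀ : Subgroup G), s * z = z * s) → z = t := by
    intro z hz hz2 hz1 hzc
    obtain ⟨y, hy, rfl⟩ := (hS₀ z).1 hz
    have hcomm : ∀ q ∈ pSub, f y * q = q * f y := by
      intro q hq
      obtain ⟨q, rfl⟩ := hf q
      have := hzc q ((hS₀ q).2 ⟨q, hq, rfl⟩)
      rw [← map_mul, ← map_mul, show q * y = y * q from Subtype.ext this]
    rcases center_pSub hy hcomm with h | h
    · rcases hker y h with rfl | rfl
      · exact absurd rfl hz1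
      · rfl
    · exfalso
      obtain ⟨g, hg⟩ := hf (aEl 1)
      have hgS : f g ∈ pSub := hg ▸ mem_pSub_iff.2 ⟨1, rfl⟩
      have hyg : g * y = y * g := Subtype.ext (hzc g ((hS₀ g).2 ⟨g, hgS, rfl⟩))
      have hgg : g * g = τ := htwo g (by rw [hg]; exact Subtype.ext e1sq) (by rw [hg]; exact e1)
      have h14 : f (y * g) = aEl 14 := by rw [map_mul, h, hg]; exact Subtype.ext e15
      obtain ⟨s14, f14⟩ := pEl_four 14 (by simp)
      have h4 := (hfour (y * g) (by rw [h14]; exact Subtype.ext s14) (by rw [h14]; exact f14)).1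
      rw [show y * g * (y * g) = y * (g * y) * g by group, hyg,
        show y * (y * g) * g = y * y * (g * g) by group, hgg,
        show y * y = 1 from Subtype.ext hz2, one_mul] at h4
      exact hτ1 h4
  refine Fusion.isSimple_groupFusion_of_sylow S S₀ ?_ ?_ ?_
  · intro h
    have h' : Nat.card (S₀ : Subgroup G) = 256 := hRcard
    rw [h, Subgroup.card_bot] at h'
    omega
  · intro z hz hzo hzc T hzT hTle hT x hx
    have hz2 : z * z = 1 := by rw [← pow_two, ← hzo, pow_orderOf_eq_one]
    have hz1 : z ≠ 1 := fun e => by rw [e, orderOf_one] at hzo; omega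
    have ez := hcen z hz hz2 hz1 hzc
    subst ez
    have hconj : ∀ y : C, f y ∈ pSub → IsConj z (y : G) → (y : G) ∈ T := by
      intro y hy hzy
      obtain ⟨g, hg⟩ := isConj_iff.1 hzy
      have := hT g z hzT (by rw [hg]; exact (hS₀ _).2 ⟨y, hy, rfl⟩)
      rwa [hg] at this
    set TC : Subgroup (alternatingGroup (Fin 11)) := (T.comap C.subtype).map f with hTC
    have hle : pSub ≤ TC := by
      refine (Subgroup.closure_le _).2 ?_
      rintro _ ⟨k, rfl⟩
      have : aGen k = ((pFour k).map aEl).prod := Subtype.ext (by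
        rw [Subgroup.val_list_prod, List.map_map]; exact (pFour_prod k).symm)
      show aGen k ∈ TC
      rw [this]
      refine Subgroup.list_prod_mem _ fun q hq => ?_
      obtain ⟨i, hi, rfl⟩ := List.mem_map.1 hq
      obtain ⟨s4, f4⟩ := pEl_four i (pFour_mem k i hi)
      obtain ⟨y, hy⟩ := hf (aEl i)
      refine ⟨y, ?_, hy⟩
      refine hconj y (by rw [hy]; exact mem_pSub_iff.2 ⟨i, rfl⟩)
        (hfour y (by rw [hy]; exact Subtype.ext s4) (by rw [hy]; exact f4)).2
    obtain ⟨y, hy, rfl⟩ := (hS₀ x).1 hx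
    obtain ⟨y', hy', e⟩ := hle hy
    rcases hlift y' y e with rfl | rfl
    · exact hy'
    · exact mul_mem (show (y' : G) ∈ T from hy') hzT
  · intro g hg ho
    have hgt : g * t * g⁻¹ = t := by
      refine hcen _ ((Subgroup.mem_normalizer_iff.1 hg t).1 hτS) ?_ ?_ ?_
      · rw [show g * t * g⁻¹ * (g * t * g⁻¹) = g * (t * t) * g⁻¹ by group, ht2]; group
      · exact fun e => ht1 (conj_eq_one_iff.1 e)
      · intro s hs
        have hs' : g⁻¹ * s * g ∈ (S₀ : Subgroup G) := by
          refine (Subgroup.mem_normalizer_iff.1 hg _).2 ?_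
          rwa [show g * (g⁻¹ * s * g) * g⁻¹ = s by group]
        obtain ⟨y, -, hy⟩ := (hS₀ _).1 hs'
        have hsy : s = g * y * g⁻¹ := by rw [hy]; group
        rw [hsy, show g * (y : G) * g⁻¹ * (g * t * g⁻¹) = g * ((y : G) * t) * g⁻¹ by group,
          (hmemC y).1 y.2]
        group
    have hgC : g ∈ C := (hmemC g).2 (mul_inv_eq_iff_eq_mul.1 hgt)
    set y : C := ⟨g, hgC⟩ with hy
    obtain ⟨P, hP⟩ := exists_sylow
    have hnorm : f y ∈ Subgroup.normalizer
        ((P : Subgroup (alternatingGroup (Fin 11))) : Set (alternatingGroup (Fin 11))) := by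
      rw [hP, Subgroup.mem_normalizer_iff]
      intro q
      obtain ⟨q, rfl⟩ := hf q
      rw [← map_inv, ← map_mul, ← map_mul]
      have h1 := Subgroup.mem_normalizer_iff.1 hg (q : G)
      constructor
      · intro hq
        obtain ⟨r, hr, e⟩ := (hS₀ _).1 (h1.1 ((hS₀ _).2 ⟨q, hq, rfl⟩))
        rwa [show r = y * q * y⁻¹ from Subtype.ext e] at hr
      · intro hq
        obtain ⟨r, hr, e⟩ := (hS₀ _).1 (h1.2 ((hS₀ _).2 ⟨y * q * y⁻¹, hq, rfl⟩))
        rwa [show r = q from Subtype.ext e] at hr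
    have hoy : (orderOf y).Coprime 2 := by rw [← Subgroup.orderOf_coe]; exact ho
    have hfy : f y = 1 := by
      refine eq_one_of_normalizes_sylow 11 (by norm_num) P hnorm ?_
      have h2 : Odd (orderOf y) := Nat.coprime_two_right.1 hoy
      exact h2.of_dvd_nat (orderOf_map_dvd f y)
    rcases hker y hfy with e | e
    · rw [show g = 1 from congrArg Subtype.val e]; exact one_mem _
    · exfalso
      rw [show g = t from congrArg Subtype.val e, ht] at ho
      exact absurd ho (by decide)

end Cfsg.Agent.Lib.LyFusion69
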