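import Cfsg.Agent.Lib.LyCent69.Main
import Cfsg.Agent.Lib.LyFusion69.Abstract
import Cfsg.Agent.Lib.Fusion.GroupTransport

/-!
The 2-fusion system of the Lyons group is simple.
-/

set_option autoImplicit false

namespace Cfsg.Agent.Lib.LyFusion69

open Cfsg.Agent.Lib.LyDC (rep base tabs)
open Cfsg.Agent.Lib.LyCent69 (tBar tWord tInv)

/-- an involution commuting with `a ^ 4` -/
def vWord : List Nat := [0x1535111164628636, 0x5457]

theorem vWord_checks :
    tabs.same base (vWord ++ tWord) (tWord ++ vWord) = true ∧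
    tabs.same base (vWord ++ vWord) [] = true ∧
    tabs.same base vWord [] = false ∧ tabs.same base vWord tWord = false := by
  decide +kernel

theorem ly_isSimple (S : Sylow 2 Cfsg.Spor.Ly) [Finite Cfsg.Spor.Ly] :
    (Cfsg.groupFusionSystem (S : Subgroup Cfsg.Spor.Ly)).IsSimple 2 := by
  have hI := LyDC.baseInj
  obtain ⟨ht, hD⟩ := LyCent69.ly_centralizer
  have hinj := LyMain.lyPhi_injective LyCent69.hbar_simple
  have hr := LyCent69.rho_injective
  obtain ⟨c1, c2, c3, c4⟩ := vWord_checks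
  set vb : LyDC.Hbar := rep.ev vWord
  have hne : ∀ {u w : List ℕ}, tabs.same base u w = false → rep.ev u ≠ rep.ev w := fun h e => by
    rw [← rep.same_iff LyDC.base_lt hI, h] at e
    exact Bool.noConfusion e
  have e1 : vb * tBar = tBar * vb := by
    rw [tBar, ← rep.ev_append, ← rep.ev_append, rep.eq_of_same LyDC.base_lt hI c1]
  have e2 : vb * vb = 1 := by
    rw [← rep.ev_append, rep.eq_of_same LyDC.base_lt hI c2, rep.ev_nil]
  have e3 : vb ≠ 1 := fun e => hne c3 (e.trans rep.ev_nil.symm)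
  have e4 : vb ≠ tBar := hne c4
  have conj : ∀ x : LyDC.Hbar, x * x = 1 → x ≠ 1 → IsConj (LyMain.lyPhi tBar) (LyMain.lyPhi x) := by
    intro x hx hx1
    obtain ⟨e⟩ := LyCent69.hbar_iso_dc
    have ho : ∀ y : LyDC.Hbar, y * y = 1 → y ≠ 1 → orderOf (e y) = 2 := fun y hy hy1 => by
      rw [MulEquiv.orderOf_eq]
      exact orderOf_eq_prime (by rw [pow_two]; exact hy) hy1
    have h := G2Inv.isConj_involutions (F := ZMod 5) (by rw [ZMod.card]; decide) _ _
      (ho tBar (LyCent69.tBar_mul_self hI) (LyCent69.tBar_ne_one hI)) (ho x hx hx1)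
    have h' : IsConj tBar x := by simpa using e.symm.toMonoidHom.map_isConj h
    exact LyMain.lyPhi.map_isConj h'
  have hT := LyCent69.tInv_eq
  refine isSimple_fusion tInv ht hD (m := 202207730484375) (by rw [LyCent69.ly_isLy.2])
    ⟨101103865242187, by norm_num⟩
    (LyCent69.cycElt 0 * LyCent69.cycElt 1) ?_ ?_ (LyMain.lyPhi vb) ?_ ?_ ?_ ?_ ?_ ?_ S
  · rw [mul_assoc, ← LyCent69.cycElt_commute hr, ← mul_assoc, ← LyCent69.cycElt_commute hr, mul_assoc]
  · rw [← pow_two]; exact LyCent69.cycElt_pair hr 0 1 (by decide)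
  · rw [hT, ← map_mul, ← map_mul, e1]
  · rw [← map_mul, e2, map_one]
  · exact fun e => e3 (hinj (e.trans (map_one _).symm))
  · rw [hT]; exact fun e => e4 (hinj e)
  · rw [hT]; exact conj vb e2 e3
  · rw [hT, ← map_mul]
    refine conj _ ?_ ?_
    · rw [show vb * tBar * (vb * tBar) = vb * (tBar * vb) * tBar by group, ← e1,
        show vb * (vb * tBar) * tBar = vb * vb * (tBar * tBar) by group, e2,
        LyCent69.tBar_mul_self hI, one_mul]
    · intro e
      exact e4 ((eq_inv_of_mul_eq_one_left e).trans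
        (inv_eq_of_mul_eq_one_right (LyCent69.tBar_mul_self hI)))

theorem isSimple_of_iso {G : Type*} [Group G] [Finite G] (hG : Cfsg.Spor.IsoLy G) (S : Sylow 2 G) :
    (Cfsg.groupFusionSystem (S : Subgroup G)).IsSimple 2 := by
  haveI : Fact (Nat.Prime 2) := ⟨Nat.prime_two⟩
  haveI := LyCent69.ly_finite
  obtain ⟨f⟩ := hG
  exact Fusion.GroupTransport.isSimple_of_mulEquiv f.symm (fun S' => ly_isSimple S') S

end Cfsg.Agent.Lib.LyFusion69
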